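import Cfsg.Agent.H975.Rad.Words
import Cfsg.Agent.H109.EndPsl

/-!
# The row `PSL_2(q)` of S3832 / S4336 for `p = 2`
-/

set_option autoImplicit false
set_option linter.unusedSectionVars false

namespace Cfsg.Agent.H975.Rad

open Subgroup Cfsg Matrix
open Cfsg.Agent.H459.Iface Cfsg.Agent.H459.Rad Cfsg.Agent.H483.Rad23
open Cfsg.Agent.ClassicalGeometry.AutPSL.Root Cfsg.Agent.ClassicalGeometry.AutPSL.Auto
  Cfsg.Agent.ClassicalGeometry.AutPSL.Main Cfsg.Agent.BpLin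
open Cfsg.Agent.H109.EndPsl

local notation "S2" => Matrix.SpecialLinearGroup (Fin 2)
local notation "P2" => Matrix.ProjectiveSpecialLinearGroup (Fin 2)

section Comp

variable {F : Type*} [Field F]

/-- the companion matrix -/
def comp (d t : F) : Matrix (Fin 2) (Fin 2) F := !![0, -d; 1, t]

/-- nonscalar matrices are conjugate to their companion matrices -/
theorem exists_comp {g : Matrix (Fin 2) (Fin 2) F} (hg : NS g) :
    ∃ B : GL (Fin 2) F, g * (B : Matrix (Fin 2) (Fin 2) F) = (B : Matrix (Fin 2) (Fin 2) F) * comp g.det g.trace := by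
  have key : ∀ u v : F, (u * (g 1 0 * u + g 1 1 * v) - (g 0 0 * u + g 0 1 * v) * v ≠ 0) →
      ∃ B : GL (Fin 2) F, g * (B : Matrix (Fin 2) (Fin 2) F) =
        (B : Matrix (Fin 2) (Fin 2) F) * comp g.det g.trace := by
    intro u v h
    let B : Matrix (Fin 2) (Fin 2) F := !![u, g 0 0 * u + g 0 1 * v; v, g 1 0 * u + g 1 1 * v]
    have hB : B.det ≠ 0 := by
      rw [Matrix.det_fin_two_of]
      exact h
    refine ⟨Matrix.GeneralLinearGroup.mkOfDetNeZero B hB, ?_⟩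
    change g * B = B * _
    ext i j
    fin_cases i <;> fin_cases j <;>
      simp [B, comp, Matrix.mul_apply, Fin.sum_univ_two, Matrix.det_fin_two, Matrix.trace_fin_two] <;> ring
  rcases hg with h | h | h
  · exact key 0 1 (by simpa using h)
  · exact key 1 0 (by simpa using h)
  · by_cases h01 : g 0 1 = 0
    · by_cases h10 : g 1 0 = 0
      · refine key 1 1 ?_
        rw [h01, h10]
        intro h2
        apply h
        linear_combination -h2
      · exact key 1 0 (by simpa using h10)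
    · exact key 0 1 (by simpa using h01)

theorem ns_cj {g : Matrix (Fin 2) (Fin 2) F} (h : ¬ NS g) : ∃ c : F, g = c • 1 := by
  unfold NS at h
  push Not at h
  obtain ⟨h1, h2, h3⟩ := h
  refine ⟨g 0 0, ?_⟩
  ext i j
  fin_cases i <;> fin_cases j
  · simp
  · simpa using h1
  · simpa using h2
  · simpa using (sub_eq_zero.1 h3).symm

/-- two nonscalar elements of `SL_2` with the same trace are conjugate -/
theorem exists_conj {g g' : S2 F} (hg : NS (g : Matrix (Fin 2) (Fin 2) F)) (hg' : NS (g' : Matrix (Fin 2) (Fin 2) F))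
    (ht : (g : Matrix (Fin 2) (Fin 2) F).trace = (g' : Matrix (Fin 2) (Fin 2) F).trace) :
    ∃ B : GL (Fin 2) F, cj B g = g' := by
  obtain ⟨B, hB⟩ := exists_comp hg
  obtain ⟨B', hB'⟩ := exists_comp hg'
  rw [g.2] at hB
  rw [g'.2, ← ht] at hB'
  refine ⟨B' * B⁻¹, ?_⟩
  apply Subtype.ext
  rw [coe_cj, _root_.mul_inv_rev, inv_inv, Units.val_mul, Units.val_mul]
  have h1 : ((B⁻¹ : GL (Fin 2) F) : Matrix (Fin 2) (Fin 2) F) * ((g : Matrix (Fin 2) (Fin 2) F) * B) =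
      comp 1 (g : Matrix (Fin 2) (Fin 2) F).trace := by
    rw [hB, ← mul_assoc, ← Units.val_mul, inv_mul_cancel, Units.val_one, one_mul]
  calc (B' : Matrix (Fin 2) (Fin 2) F) * ((B⁻¹ : GL (Fin 2) F) : Matrix (Fin 2) (Fin 2) F) * g *
      ((B : Matrix (Fin 2) (Fin 2) F) * ((B'⁻¹ : GL (Fin 2) F) : Matrix (Fin 2) (Fin 2) F))
      = (B' : Matrix (Fin 2) (Fin 2) F) * (((B⁻¹ : GL (Fin 2) F) : Matrix (Fin 2) (Fin 2) F) *
        ((g : Matrix (Fin 2) (Fin 2) F) * B)) * ((B'⁻¹ : GL (Fin 2) F) : Matrix (Fin 2) (Fin 2) F) := by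
        simp only [mul_assoc]
    _ = g' * ((B' : Matrix (Fin 2) (Fin 2) F) * ((B'⁻¹ : GL (Fin 2) F) : Matrix (Fin 2) (Fin 2) F)) := by
        rw [h1, ← hB', mul_assoc]
    _ = g' := by rw [← Units.val_mul, mul_inv_cancel, Units.val_one, mul_one]

/-- the standard matrices -/
def W (c : F) (hc : c ≠ 0) : GL (Fin 2) F :=
  Matrix.GeneralLinearGroup.mkOfDetNeZero !![0, c; 1, 0] (by
    rw [Matrix.det_fin_two_of]
    simpa using hc)

theorem coe_W (c : F) (hc : c ≠ 0) : (W c hc : Matrix (Fin 2) (Fin 2) F) = !![0, c; 1, 0] := rfl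

/-- the inverse of `A` is a multiple of the adjugate; the action of `W c` -/
theorem cj_W {c : F} (hc : c ≠ 0) (g : S2 F) : (cj (W c hc) g : Matrix (Fin 2) (Fin 2) F) =
    !![(g : Matrix (Fin 2) (Fin 2) F) 1 1, c * (g : Matrix (Fin 2) (Fin 2) F) 1 0;
      c⁻¹ * (g : Matrix (Fin 2) (Fin 2) F) 0 1, (g : Matrix (Fin 2) (Fin 2) F) 0 0] := by
  have h1 : (cj (W c hc) g : Matrix (Fin 2) (Fin 2) F) * (W c hc : Matrix (Fin 2) (Fin 2) F) =
      (W c hc : Matrix (Fin 2) (Fin 2) F) * g := by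
    rw [coe_cj, mul_assoc, ← Units.val_mul, inv_mul_cancel, Units.val_one, mul_one]
  have h2 : (!![(g : Matrix (Fin 2) (Fin 2) F) 1 1, c * (g : Matrix (Fin 2) (Fin 2) F) 1 0;
      c⁻¹ * (g : Matrix (Fin 2) (Fin 2) F) 0 1, (g : Matrix (Fin 2) (Fin 2) F) 0 0] : Matrix (Fin 2) (Fin 2) F) *
      (W c hc : Matrix (Fin 2) (Fin 2) F) = (W c hc : Matrix (Fin 2) (Fin 2) F) * g := by
    rw [coe_W]
    ext i j
    fin_cases i <;> fin_cases j <;> simp [Matrix.mul_apply, Fin.sum_univ_two]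
    · exact mul_comm _ _
    · rw [mul_right_comm, inv_mul_cancel₀ hc, one_mul]
  have h3 := congrArg (fun M => M * ((W c hc)⁻¹ : GL (Fin 2) F).1) (h1.trans h2.symm)
  simp only [mul_assoc] at h3
  rw [← Units.val_mul, mul_inv_cancel, Units.val_one, mul_one, mul_one] at h3
  exact h3

/-- **`x` inverts an element with the trace of `g`.** -/
theorem exists_inv {c : F} (hc : c ≠ 0) {g : S2 F} (hg : NS (g : Matrix (Fin 2) (Fin 2) F)) {a e : F}
    (hae : a * ((g : Matrix (Fin 2) (Fin 2) F).trace - a) + c * e * e = 1)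
    (hns : e ≠ 0 ∨ 2 * a - (g : Matrix (Fin 2) (Fin 2) F).trace ≠ 0) :
    ∃ B : GL (Fin 2) F, cj (W c hc) (cj B g) = (cj B g)⁻¹ := by
  set t := (g : Matrix (Fin 2) (Fin 2) F).trace with ht
  let g' : S2 F := ⟨!![a, -(c * e); e, t - a], by
    rw [Matrix.det_fin_two_of]
    linear_combination hae⟩
  have hg' : (g' : Matrix (Fin 2) (Fin 2) F) = !![a, -(c * e); e, t - a] := rfl
  have hNS : NS (g' : Matrix (Fin 2) (Fin 2) F) := by
    rw [hg']
    rcases hns with h | h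
    · right; left; simpa using h
    · right; right
      simp only [Matrix.of_apply, Matrix.cons_val', Matrix.cons_val_zero, Matrix.cons_val_one,
        Matrix.cons_val_fin_one]
      intro h2
      apply h
      linear_combination h2
  obtain ⟨B, hB⟩ := exists_conj hg hNS (by
    rw [hg', Matrix.trace_fin_two_of, ← ht]; ring)
  refine ⟨B, ?_⟩
  rw [hB]
  apply Subtype.ext
  rw [cj_W, Matrix.SpecialLinearGroup.coe_inv, Matrix.adjugate_fin_two, hg']
  ext i j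
  fin_cases i <;> fin_cases j <;> simp [hc]

end Comp

section Basic

variable {F : Type*} [Field F]

theorem um_lm_ne : pr (um (1 : F)) * pr (lm 1) ≠ pr (lm 1) * pr (um 1) := by
  rw [← map_mul, ← map_mul]
  intro h
  obtain ⟨c, hc⟩ := exists_smul_of_pr_eq h
  have h1 := congrFun (congrFun hc 0) 1
  have h2 := congrFun (congrFun hc 0) 0
  rw [Matrix.SpecialLinearGroup.coe_mul, Matrix.SpecialLinearGroup.coe_mul, coe_um, coe_lm] at h1 h2
  simp [Matrix.mul_apply, Fin.sum_univ_two] at h1 h2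
  rw [← h1] at h2
  have h3 : (1 : F) = 0 := by linear_combination -h2
  exact one_ne_zero h3

theorem not_comm : ¬ IsMulCommutative (P2 F) := fun h => um_lm_ne (F := F) (h.is_comm.comm _ _)

theorem not_solvable [Finite F] [IsSimpleGroup (P2 F)] : ¬ Group.IsSolvable (P2 F) := by
  intro h
  exact um_lm_ne (F := F) (IsSimpleGroup.comm_iff_isSolvable.2 h _ _)

theorem center_bot [IsSimpleGroup (P2 F)] : center (P2 F) = ⊥ := by
  rcases (inferInstance : (center (P2 F)).Normal).eq_bot_or_eq_top with h | h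
  · exact h
  · exact absurd (mem_center_iff.1 (h ▸ mem_top (pr (lm (1 : F)))) (pr (um 1))) um_lm_ne

/-- scalar matrices -/
def Sc {R : Type*} [CommRing R] (m : Matrix (Fin 2) (Fin 2) R) : Prop := m 0 1 = 0 ∧ m 1 0 = 0 ∧ m 0 0 = m 1 1

instance decidableSc {R : Type*} [CommRing R] [DecidableEq R] (m : Matrix (Fin 2) (Fin 2) R) : Decidable (Sc m) := by
  unfold Sc; infer_instance

theorem pr_eq_one {m : S2 F} (h : Sc (m : Matrix (Fin 2) (Fin 2) F)) : pr m = 1 := by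
  rw [← map_one (pr : S2 F →* P2 F)]
  symm
  apply pr_eq_of_smul (c := (m : Matrix (Fin 2) (Fin 2) F) 0 0)
  obtain ⟨h1, h2, h3⟩ := h
  ext i j
  fin_cases i <;> fin_cases j <;> simp [h1, h2, h3]

theorem sc_map {R : Type*} [CommRing R] (ψ : R →+* F) {m : S2 R} (h : Sc m.1) :
    Sc (Matrix.SpecialLinearGroup.map ψ m).1 := by
  obtain ⟨h1, h2, h3⟩ := h
  exact ⟨(coe_map ψ m 0 1).trans (by rw [h1, map_zero]), (coe_map ψ m 1 0).trans (by rw [h2, map_zero]),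
    (coe_map ψ m 0 0).trans (by rw [h3]; exact (coe_map ψ m 1 1).symm)⟩

/-- **explicit computations** -/
theorem false_explicit (hc : center (P2 F) = ⊥) {x : MulAut (P2 F)} (hx : x * x = 1) (hP : PS 4 x) {R : Type}
    [CommRing R] (ψ : R →+* F) (θ : S2 R → S2 R)
    (hθ : ∀ m : S2 R, x (pr (Matrix.SpecialLinearGroup.map ψ m)) = pr (Matrix.SpecialLinearGroup.map ψ (θ m)))
    (g₁ g₂ g₃ g₄ i₃ i₄ s t a b : S2 R) (h₂₃ : g₂.1 * s.1 = g₃.1) (h₁₄ : g₁.1 * t.1 = g₄.1) (h₃ : g₃.1 * i₃.1 = 1)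
    (h₄ : g₄.1 * i₄.1 = 1) (ha : a.1 = g₂.1 * (θ s).1 * i₃.1) (hb : b.1 = g₁.1 * (θ t).1 * i₄.1) {k n : ℕ}
    (ha3 : Sc (a.1 ^ 3)) (hbk : Sc (b.1 ^ 2 ^ k)) (hab : Sc ((a.1 * b.1) ^ n)) (hn : Nat.Coprime n 6) (u : R)
    (hu : (a.1 * b.1) 0 1 * u = 1) : False := by
  let Φ : S2 R →* P2 F := (pr : S2 F →* P2 F).comp (Matrix.SpecialLinearGroup.map ψ)
  have hΦ : ∀ m, Φ m = pr (Matrix.SpecialLinearGroup.map ψ m) := fun _ => rfl
  have hSc : ∀ m : S2 R, Sc m.1 → Φ m = 1 := by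
    intro m hm
    rw [hΦ]
    exact pr_eq_one (sc_map ψ hm)
  have e₂₃ : g₂ * s = g₃ := Subtype.ext h₂₃
  have e₁₄ : g₁ * t = g₄ := Subtype.ext h₁₄
  have e₃ : g₃⁻¹ = i₃ := inv_eq_of_mul_eq_one_right (Subtype.ext h₃)
  have e₄ : g₄⁻¹ = i₄ := inv_eq_of_mul_eq_one_right (Subtype.ext h₄)
  have ea : a = g₂ * θ s * i₃ := Subtype.ext ha
  have eb : b = g₁ * θ t * i₄ := Subtype.ext hb
  have k1 : Φ a = Φ g₂ * x ((Φ g₂)⁻¹ * Φ g₃) * (Φ g₃)⁻¹ := by
    have h1 : (Φ g₂)⁻¹ * Φ g₃ = Φ s := by rw [← map_inv, ← map_mul, ← e₂₃, inv_mul_cancel_left]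
    have h2 : x (Φ s) = Φ (θ s) := hθ s
    rw [h1, h2, ← map_inv, e₃, ← map_mul, ← map_mul, ea]
  have k2 : Φ b = Φ g₁ * x ((Φ g₁)⁻¹ * Φ g₄) * (Φ g₄)⁻¹ := by
    have h1 : (Φ g₁)⁻¹ * Φ g₄ = Φ t := by rw [← map_inv, ← map_mul, ← e₁₄, inv_mul_cancel_left]
    have h2 : x (Φ t) = Φ (θ t) := hθ t
    rw [h1, h2, ← map_inv, e₄, ← map_mul, ← map_mul, eb]
  have k3 : Φ a ^ 3 = 1 := by
    have h1 : (a ^ 3).1 = a.1 ^ 3 := Matrix.SpecialLinearGroup.coe_pow a 3
    rw [← map_pow]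
    exact hSc _ (h1 ▸ ha3)
  have k4 : Φ b ^ 2 ^ k = 1 := by
    have h1 : (b ^ 2 ^ k).1 = b.1 ^ 2 ^ k := Matrix.SpecialLinearGroup.coe_pow b _
    rw [← map_pow]
    exact hSc _ (h1 ▸ hbk)
  have k5 : (Φ a * Φ b) ^ n = 1 := by
    have h1 : ((a * b) ^ n).1 = (a.1 * b.1) ^ n := Matrix.SpecialLinearGroup.coe_pow (a * b) n
    rw [← map_mul, ← map_pow]
    exact hSc _ (h1 ▸ hab)
  refine false_of_words hc hx hP (Φ g₁) (Φ g₂) (Φ g₃) (Φ g₄) k1 k2 k3 k4 k5 hn ?_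
  · rw [← map_mul]
    intro h
    have h1 : pr (Matrix.SpecialLinearGroup.map ψ (a * b)) = pr (1 : S2 F) := by
      rw [← hΦ, h, map_one]
    obtain ⟨c, hc⟩ := exists_smul_of_pr_eq h1.symm
    have h2 := congrFun (congrFun hc 0) 1
    rw [H109.EndPsl.coe_map, Matrix.SpecialLinearGroup.coe_mul] at h2
    have h3 : ψ ((a.1 * b.1) 0 1) = 0 := by
      rw [h2]; simp
    have h4 := congrArg ψ hu
    rw [map_mul, h3, zero_mul, map_one] at h4
    exact zero_ne_one h4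

end Basic

end Cfsg.Agent.H975.Rad
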